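import Groth.Agent.Lib.FibDim14.Semicont

/-!
# Quasi-finite charts to affine space at a point of given fibre dimension
-/

universe u

open CategoryTheory AlgebraicGeometry Topology TopologicalSpace TensorProduct Order

set_option backward.isDefEq.respectTransparency.types false

namespace Groth.Agent.QfChart18

open Groth.Agent.FibDim14

/-- a chart which is quasi-finite at the given point -/
theorem exists_quasiFiniteAt_affine {A B : CommRingCat.{u}} (φ : A ⟶ B) (hφ : φ.hom.FiniteType)
    (x : Spec B) {n : ℕ}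
    (hn : topologicalKrullDim ((Spec.map φ) ⁻¹' {Spec.map φ x} : Set (Spec B)) ≤ (n : WithBot ℕ∞)) :
    ∃ (m : ℕ) (ψ : CommRingCat.of (MvPolynomial (Fin m) A) ⟶ B), m ≤ n ∧ ψ.hom.FiniteType ∧
      CommRingCat.ofHom MvPolynomial.C ≫ ψ = φ ∧ (Spec.map ψ).QuasiFiniteAt x := by
  letI : Algebra A B := φ.hom.toAlgebra
  haveI : Algebra.FiniteType A B := hφ
  haveI hlft : LocallyOfFiniteType (Spec.map φ) := (HasRingHomProperty.Spec_iff (P := @LocallyOfFiniteType)).2 hφ
  let p : PrimeSpectrum A := PrimeSpectrum.comap (algebraMap A B) x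
  let H := PrimeSpectrum.preimageHomeomorphFiber A B p
  haveI : Nontrivial (p.asIdeal.Fiber B) := (H ⟨x, rfl⟩).nontrivial
  have hdim : ringKrullDim (p.asIdeal.Fiber B) ≤ (n : WithBot ℕ∞) := by
    rw [← PrimeSpectrum.topologicalKrullDim_eq_ringKrullDim, ← IsHomeomorph.topologicalKrullDim_eq _ H.isHomeomorph]
    exact hn
  obtain ⟨m, b, hm, hint⟩ := exists_fibre_normalization p hdim
  let ψ : MvPolynomial (Fin m) A →ₐ[A] B := MvPolynomial.aeval b
  let ψK : MvPolynomial (Fin m) p.asIdeal.ResidueField →ₐ[p.asIdeal.ResidueField] p.asIdeal.Fiber B :=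
    MvPolynomial.aeval fun i => ((1 : p.asIdeal.ResidueField) ⊗ₜ[A] b i : p.asIdeal.Fiber B)
  let a : Spec B ⟶ Spec (CommRingCat.of (MvPolynomial (Fin m) A)) := Spec.map (CommRingCat.ofHom ψ.toRingHom)
  let aK := Spec.map (CommRingCat.ofHom ψK.toRingHom)
  let π : Spec (CommRingCat.of (MvPolynomial (Fin m) A)) ⟶ Spec A :=
    Spec.map (CommRingCat.ofHom (algebraMap A (MvPolynomial (Fin m) A)))
  have haπ : a ≫ π = Spec.map φ := by
    rw [← Spec.map_comp]
    exact congrArg Spec.map (CommRingCat.hom_ext (RingHom.ext fun t => ψ.commutes t))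
  haveI : LocallyOfFiniteType π := (HasRingHomProperty.Spec_iff (P := @LocallyOfFiniteType)).2
    (RingHom.finiteType_algebraMap.2 inferInstance)
  haveI : LocallyOfFiniteType (a ≫ π) := haπ ▸ hlft
  haveI : LocallyOfFiniteType a := locallyOfFiniteType_of_comp a π
  have hsq : (Algebra.TensorProduct.includeRight : B →ₐ[A] p.asIdeal.Fiber B).toRingHom.comp ψ.toRingHom =
      ψK.toRingHom.comp (MvPolynomial.map (algebraMap A p.asIdeal.ResidueField)) := by
    refine MvPolynomial.ringHom_ext (fun t => ?_) fun i => ?_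
    · simp [ψ, ψK, IsScalarTower.algebraMap_apply A p.asIdeal.ResidueField (p.asIdeal.Fiber B)]
    · simp [ψ, ψK]
  have hfin : ψK.toRingHom.Finite :=
    RingHom.finite_iff_isIntegral_and_finiteType.2 ⟨hint, by
      letI := ψK.toRingHom.toAlgebra
      haveI : IsScalarTower p.asIdeal.ResidueField (MvPolynomial (Fin m) p.asIdeal.ResidueField) (p.asIdeal.Fiber B) :=
        IsScalarTower.of_algHom ψK
      exact Algebra.FiniteType.of_restrictScalars_finiteType p.asIdeal.ResidueField _ _⟩
  haveI : IsFinite aK := (IsFinite.SpecMap_iff _).2 hfin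
  let z : Spec (CommRingCat.of (p.asIdeal.Fiber B)) := H ⟨x, rfl⟩
  let ι : Spec (CommRingCat.of (p.asIdeal.Fiber B)) → Spec B :=
    PrimeSpectrum.comap (Algebra.TensorProduct.includeRight : B →ₐ[A] p.asIdeal.Fiber B).toRingHom
  have hι : IsEmbedding ι := isEmbedding_fibre p
  have hzx : ι z = x := congrArg Subtype.val (H.symm_apply_apply ⟨x, rfl⟩)
  have hcomm : ∀ w, a (ι w) = PrimeSpectrum.comap (MvPolynomial.map (algebraMap A p.asIdeal.ResidueField)) (aK w) :=
    fun w => congrArg (fun f => PrimeSpectrum.comap f w) hsq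
  have hzero : FlatMor.fibreDimAt a x = 0 := by
    rw [← fibreDimAt_eq_zero aK z, fibreDimAt_eq_localDim_preimage, fibreDimAt_eq_localDim_preimage]
    let e : (aK ⁻¹' {aK z} : Set (Spec (CommRingCat.of (p.asIdeal.Fiber B)))) → Spec B := fun w => ι w.1
    symm
    refine localDim_of_range (T := a ⁻¹' {a x}) (e := e) (hι.comp IsEmbedding.subtypeVal) ?_ ⟨z, rfl⟩ hzx rfl
    ext y
    constructor
    · rintro ⟨⟨w, hw⟩, rfl⟩
      show a (ι w) = a x
      rw [← hzx, hcomm, hcomm, show aK w = aK z from hw]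
    · intro hy
      have hy : a y = a x := hy
      have hp : PrimeSpectrum.comap (algebraMap A B) y = p := by
        have h1 := congrArg π hy
        rw [← Scheme.Hom.comp_apply, ← Scheme.Hom.comp_apply, haπ] at h1
        exact h1
      let w : Spec (CommRingCat.of (p.asIdeal.Fiber B)) := H ⟨y, hp⟩
      have hwy : ι w = y := congrArg Subtype.val (H.symm_apply_apply ⟨y, hp⟩)
      refine ⟨⟨w, injective_comap_map p m ?_⟩, hwy⟩
      rw [← hcomm, ← hcomm, hwy, hzx, hy]
  refine ⟨m, CommRingCat.ofHom ψ.toRingHom, hm, ?_, ?_, (fibreDimAt_eq_zero_iff a x).1 hzero⟩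
  · exact (HasRingHomProperty.Spec_iff (P := @LocallyOfFiniteType)).1 (inferInstanceAs (LocallyOfFiniteType a))
  · exact CommRingCat.hom_ext (RingHom.ext fun t => ψ.commutes t)

end Groth.Agent.QfChart18
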